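import Groth.Agent.EtpbcA.ConsFLC
import Groth.Agent.EtpbcA.OverSite2
import Groth.Agent.EtpbcA.PullFLC
import Groth.Agent.Etcore.StalkSec
import Groth.Agent.Etcore.Cover

/-!
# Constant sheaves on the spectrum of a field

A sheaf on `Spec K` all of whose germs at a geometric point come from global sections is constant.
-/

set_option autoImplicit false
universe u
open CategoryTheory CategoryTheory.Limits AlgebraicGeometry Opposite

namespace Groth.Agent.Lefpen.H776.ConstPt

open Groth.Agent.Etcore Groth.Agent.EtpbcA Groth.Agent.EtpbcA.ConsVan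

variable {K : Type u} [Field K] {Ω : Type u} [Field Ω] [IsSepClosed Ω]
  (ξ : Spec (CommRingCat.of Ω) ⟶ Spec (CommRingCat.of K)) (G : EtCoh.Ab (Spec (CommRingCat.of K)))

/-- The geometric point of the final object. -/
noncomputable def topPt : (Scheme.pointSmallEtale ξ).fiber.obj (EtCoh.top (Spec (CommRingCat.of K))) :=
  StalkSec.mkLift ξ (U := EtCoh.top (Spec (CommRingCat.of K))) ξ (Category.comp_id ξ)

theorem eq_topPt (x : (Scheme.pointSmallEtale ξ).fiber.obj (EtCoh.top (Spec (CommRingCat.of K)))) :
    x = topPt ξ := by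
  apply StalkSec.ext_hom
  have h := StalkSec.hom_comp ξ x
  exact (Category.comp_id _).symm.trans h

/-- A section over `Spec K` vanishing on a nonempty étale scheme is zero. -/
theorem eq_zero_of_van {s : EtCoh.sect G (EtCoh.top (Spec (CommRingCat.of K)))}
    {x : (EtCoh.top (Spec (CommRingCat.of K))).left} (h : Van G s x) : s = 0 := by
  refine ConsVan.eq_zero_of_van s fun y => ?_
  have e : y = x := @Subsingleton.elim (Spec (CommRingCat.of K)) inferInstance y x
  rw [e]
  exact h

/-- The germ map is injective on global sections. -/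
theorem germ_injective : Function.Injective
    (StalkSec.germ ξ G (EtCoh.top (Spec (CommRingCat.of K))) (topPt ξ)) := by
  rw [injective_iff_map_eq_zero]
  intro s hs
  rw [StalkSec.germ_eq_zero_iff] at hs
  obtain ⟨V, f, v, hv, h⟩ := hs
  exact eq_zero_of_van G ⟨V, f, v, hv, h⟩

/-- A sheaf on `Spec K` whose germs come from global sections is constant. -/
theorem nonempty_iso_const
    (hs : Function.Surjective (StalkSec.germ ξ G (EtCoh.top (Spec (CommRingCat.of K))) (topPt ξ)))
    (M : Type) [AddCommGroup M] (e : M ≃+ EtCoh.sect G (EtCoh.top (Spec (CommRingCat.of K)))) :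
    Nonempty (G ≅ EtCoh.const (Spec (CommRingCat.of K)) M) := by
  have key : ∀ w : (EtCoh.top (Spec (CommRingCat.of K))).left,
      InjAt G e.toAddMonoidHom w ∧ SurjAt G e.toAddMonoidHom w := by
    intro w
    constructor
    · intro m hm
      exact (map_eq_zero_iff e e.injective).1 (eq_zero_of_van G hm)
    · intro V g v hv t
      have hb : V.hom v = ξ default := @Subsingleton.elim (Spec (CommRingCat.of K)) inferInstance _ _
      obtain ⟨x, hx⟩ := StalkSec.exists_pt ξ v hb
      obtain ⟨s, hs'⟩ := hs (StalkSec.germ ξ G V x t)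
      obtain ⟨m, rfl⟩ := e.surjective s
      refine ⟨m, ?_⟩
      have h1 : StalkSec.germ ξ G V x (ConsVan.res G g (e m)) =
          StalkSec.germ ξ G (EtCoh.top (Spec (CommRingCat.of K))) (topPt ξ) (e m) := by
        have h2 := StalkSec.germ_res ξ G g x (e m)
        rw [eq_topPt ξ ((Scheme.pointSmallEtale ξ).fiber.map g x)] at h2
        exact h2
      have h3 : StalkSec.germ ξ G V x (t - ConsVan.res G g (e m)) = 0 := by
        rw [map_sub, sub_eq_zero]
        exact (h1.trans hs').symm
      rw [StalkSec.germ_eq_zero_iff] at h3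
      obtain ⟨V', f, v', hv', h4⟩ := h3
      rw [← hx]
      exact ⟨V', f, v', hv', h4⟩
  obtain ⟨e1⟩ := (OverSite2.restr_iso_const_iff (EtCoh.top (Spec (CommRingCat.of K))) G _).1
    (ConsFLC.nonempty_iso_const e.toAddMonoidHom key)
  exact ⟨((PullFLC.pullId (Spec (CommRingCat.of K))).app G).symm ≪≫ e1⟩

end Groth.Agent.Lefpen.H776.ConstPt
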