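import Groth.Agent.Lefpen.H776.GalFix
import Groth.Agent.EtpbcB.PBCStalk

/-!
# Constancy of the higher direct images from the triviality of the Galois action
-/

set_option autoImplicit false
universe u
open CategoryTheory CategoryTheory.Limits AlgebraicGeometry Opposite
open scoped Groth.Agent.Etcore.EtInst

namespace Groth.Agent.Lefpen.H776.GalConst

open Groth.Agent.Etcore.EtInst Groth.Agent.Etcore.HQ Groth.Agent.Etcore.LimBC1
  Groth.Agent.Etcore.HpullCalc Groth.Agent.Lefpen.H712.HT Groth.Agent.Etcore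
  Groth.Agent.Lefpen.H776.GalFix

attribute [local instance] Groth.Agent.Etcore.HQ.pfl

/-- The statement (B1): sections of `R^q f_* F` over `Spec K` are the Galois invariant classes. -/
def B1 {K : Type u} [Field K] (Ω : Type u) [Field Ω] [Algebra K Ω]
    {X : Scheme.{u}} (f : X ⟶ Spec (CommRingCat.of K)) (F : EtCoh.Ab X) (q : ℕ) : Prop :=
    Nonempty (EtCoh.H (Spec (CommRingCat.of K)) ((EtCoh.Rpush f q).obj F) 0 ≃+
      (⨅ σ : Ω ≃ₐ[K] Ω, (rs f F (Spec.map (CommRingCat.ofHom (σ : Ω →+* Ω))) (spec_map_comp σ) q -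
        AddMonoidHom.id (HT f F (Spec.map (CommRingCat.ofHom (algebraMap K Ω))) q)).ker :
        AddSubgroup (HT f F (Spec.map (CommRingCat.ofHom (algebraMap K Ω))) q)))

/-- An injective germ map with as many sections as germs. -/
theorem const_of_card {K : Type u} [Field K] {Ω : Type u} [Field Ω] [IsSepClosed Ω]
    (ξ : Spec (CommRingCat.of Ω) ⟶ Spec (CommRingCat.of K)) (G : EtCoh.Ab (Spec (CommRingCat.of K)))
    (A : Type (u + 1)) [AddCommGroup A] [Finite A]
    (e1 : EtCoh.H (Spec (CommRingCat.of K)) G 0 ≃+ A)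
    (e2 : ((EtCoh.stalk ξ).obj G : AddCommGrpCat.{u + 1}) ≃+ A) :
    ∃ (M : Type) (_ : AddCommGroup M), Nonempty (G ≅ EtCoh.const (Spec (CommRingCat.of K)) M) := by
  let e0 : A ≃+ EtCoh.sect G (EtCoh.top (Spec (CommRingCat.of K))) := e1.symm.trans (H0 _ G)
  have hfin : Finite ((EtCoh.stalk ξ).obj G : AddCommGrpCat.{u + 1}) :=
    Finite.of_equiv _ e2.symm.toEquiv
  have hfin' : Finite (EtCoh.sect G (EtCoh.top (Spec (CommRingCat.of K)))) :=
    Finite.of_equiv _ e0.toEquiv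
  have hcard : Nat.card ((EtCoh.stalk ξ).obj G : AddCommGrpCat.{u + 1}) ≤
      Nat.card (EtCoh.sect G (EtCoh.top (Spec (CommRingCat.of K)))) :=
    (Nat.card_congr (e2.trans e0).toEquiv).le
  have hb := (ConstPt.germ_injective ξ G).bijective_of_nat_card_le hcard
  refine ⟨Shrink.{0} A, inferInstance, ?_⟩
  exact ConstPt.nonempty_iso_const ξ G hb.2 (Shrink.{0} A)
    ((Shrink.addEquiv : Shrink.{0} A ≃+ A).trans e0)

/-- Constancy for `f : X ⟶ Spec K`. -/
theorem const_field {K : Type u} [Field K] (Ω : Type u) [Field Ω] [Algebra K Ω] [IsSepClosed Ω]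
    {X : Scheme.{u}} (f : X ⟶ Spec (CommRingCat.of K)) [IsProper f] (F : EtCoh.Ab X)
    (hF : EtCoh.IsTorsion F) (q : ℕ) (hb : B1 Ω f F q)
    (hfin : Finite (HT f F (Spec.map (CommRingCat.ofHom (algebraMap K Ω))) q))
    (h : ∀ (σ : Ω ≃ₐ[K] Ω) (x : HT f F (Spec.map (CommRingCat.ofHom (algebraMap K Ω))) q),
      rs f F (Spec.map (CommRingCat.ofHom (σ : Ω →+* Ω))) (spec_map_comp σ) q x = x) :
    ∃ (M : Type) (_ : AddCommGroup M),
      Nonempty ((EtCoh.Rpush f q).obj F ≅ EtCoh.const (Spec (CommRingCat.of K)) M) := by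
  obtain ⟨e⟩ := hb
  have htop : (⨅ σ : Ω ≃ₐ[K] Ω, (rs f F (Spec.map (CommRingCat.ofHom (σ : Ω →+* Ω)))
      (spec_map_comp σ) q -
        AddMonoidHom.id (HT f F (Spec.map (CommRingCat.ofHom (algebraMap K Ω))) q)).ker :
        AddSubgroup (HT f F (Spec.map (CommRingCat.ofHom (algebraMap K Ω))) q)) = ⊤ := by
    rw [eq_top_iff]
    intro x _
    rw [AddSubgroup.mem_iInf]
    intro σ
    rw [AddMonoidHom.mem_ker, AddMonoidHom.sub_apply, AddMonoidHom.id_apply, h σ x, sub_self]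
  let e1 : EtCoh.H (Spec (CommRingCat.of K)) ((EtCoh.Rpush f q).obj F) 0 ≃+
      HT f F (Spec.map (CommRingCat.ofHom (algebraMap K Ω))) q :=
    (e.trans (AddEquiv.addSubgroupCongr htop)).trans AddSubgroup.topEquiv
  obtain ⟨e2⟩ := Groth.Agent.EtpbcB.PBCStalk.stalk_Rpush f
    (Spec.map (CommRingCat.ofHom (algebraMap K Ω))) F hF q
  exact const_of_card (Spec.map (CommRingCat.ofHom (algebraMap K Ω))) _ _ e1 e2

/-- The general statement. -/
theorem exists_const {R : Type u} [CommRing R] (E : Type u) [Field E] [Algebra R E] (Ω : Type u)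
    [Field Ω] [Algebra E Ω] [Algebra R Ω] [IsScalarTower R E Ω] [IsSepClosed Ω]
    {X : Scheme.{u}} (f : X ⟶ Spec (CommRingCat.of R)) [IsProper f] (F : EtCoh.Ab X)
    (hF : EtCoh.IsTorsion F) (q : ℕ)
    (hb : B1 Ω (VanCyc.fibStr R f E) ((EtCoh.pull (VanCyc.jA R f E)).obj F) q)
    (hfin : Finite (EtCoh.H (VanCyc.fib R f Ω) ((EtCoh.pull (VanCyc.jA R f Ω)).obj F) q))
    (h : ∀ σ : Ω ≃ₐ[E] Ω, VanCyc.galH f σ F q = AddMonoidHom.id _) :
    ∃ (M : Type) (_ : AddCommGroup M),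
      Nonempty ((EtCoh.pull (VanCyc.toS R E)).obj ((EtCoh.Rpush f q).obj F) ≅
        EtCoh.const (Spec (CommRingCat.of E)) M) := by
  obtain ⟨e⟩ := (Groth.Agent.S0001.result _ _ _ _ f (VanCyc.toS R E) (VanCyc.fibStr R f E)
    (VanCyc.jA R f E) (IsPullback.of_hasPullback f (VanCyc.toS R E)) F hF).1 q
  have hp : IsProper (VanCyc.fibStr R f E) :=
    MorphismProperty.pullback_snd (P := @IsProper) _ _ inferInstance
  have hfin' : Finite (HT (VanCyc.fibStr R f E) ((EtCoh.pull (VanCyc.jA R f E)).obj F)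
      (Spec.map (CommRingCat.ofHom (algebraMap E Ω))) q) := by
    have h1 : Finite (HQ F (VanCyc.jA R f Ω) q) := hfin
    exact Finite.of_injective _ (cc_bijective (E := E) (Ω := Ω) f F q).1
  obtain ⟨M, _, ⟨e'⟩⟩ := const_field Ω (VanCyc.fibStr R f E)
    ((EtCoh.pull (VanCyc.jA R f E)).obj F) (Torsion.isTorsion_pull _ F hF) q hb hfin'
    (rs_eq f F q h)
  exact ⟨M, inferInstance, ⟨e ≪≫ e'⟩⟩

end Groth.Agent.Lefpen.H776.GalConst
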