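import Groth.Prelude.Def_VanCyc
import Groth.Agent.Lefpen.H776.ConstPt
import Groth.Agent.Lefpen.H712.HT
import Groth.Agent.Etcore.LimBC1
import Groth.Agent.Etcore.Torsion
import Groth.Agent.Etrest.ConstBasic
import Groth.Agent.Vancyc.H678.GalH

/-!
# Trivial Galois action on the geometric generic fibre and constancy of the higher direct images

Let `f : X ⟶ Spec R` be proper, `E` an `R`-algebra which is a field, `Ω` a separable closure of `E` and `F` a
torsion sheaf on `X` with `H^q(X_Ω, F)` finite.  If `Gal(Ω/E)` acts trivially on `H^q(X_Ω, F)` then the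
restriction of `R^q f_* F` to `Spec E` is a constant sheaf.
-/

set_option autoImplicit false
universe u
open CategoryTheory CategoryTheory.Limits AlgebraicGeometry Opposite
open scoped Groth.Agent.Etcore.EtInst

namespace Groth.Agent.Lefpen.H776.GalFix

open Groth.Agent.Etcore.EtInst Groth.Agent.Etcore.HQ Groth.Agent.Etcore.LimBC1
  Groth.Agent.Etcore.HpullCalc Groth.Agent.Lefpen.H712.HT Groth.Agent.Etcore

attribute [local instance] Groth.Agent.Etcore.HQ.pfl

/-- `σ` over `Spec K` -/
theorem spec_map_comp {K Ω : Type u} [Field K] [Field Ω] [Algebra K Ω] (σ : Ω ≃ₐ[K] Ω) :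
    Spec.map (CommRingCat.ofHom (σ : Ω →+* Ω)) ≫ Spec.map (CommRingCat.ofHom (algebraMap K Ω)) =
      Spec.map (CommRingCat.ofHom (algebraMap K Ω)) := by
  rw [← Spec.map_comp, ← CommRingCat.ofHom_comp]
  congr 2
  ext x
  simp

variable {R : Type u} [CommRing R] {E : Type u} [Field E] [Algebra R E] {Ω : Type u} [Field Ω]
  [Algebra E Ω] [Algebra R Ω] [IsScalarTower R E Ω] {X : Scheme.{u}} (f : X ⟶ Spec (CommRingCat.of R))
  (F : EtCoh.Ab X)

variable (E Ω) in
/-- The comparison `X ×_R Ω ⟶ (X ×_R E) ×_E Ω`. -/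
noncomputable def al : VanCyc.fib R f Ω ⟶
    pullback (VanCyc.fibStr R f E) (Spec.map (CommRingCat.ofHom (algebraMap E Ω))) :=
  pullback.lift (pullback.lift (VanCyc.jA R f Ω)
    (VanCyc.fibStr R f Ω ≫ Spec.map (CommRingCat.ofHom (algebraMap E Ω)))
      (by rw [Category.assoc, VanCyc.toS_comp R E Ω, pullback.condition]))
    (VanCyc.fibStr R f Ω) (pullback.lift_snd _ _ _)

variable (E Ω) in
/-- The inverse. -/
noncomputable def be :
    pullback (VanCyc.fibStr R f E) (Spec.map (CommRingCat.ofHom (algebraMap E Ω))) ⟶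
      VanCyc.fib R f Ω :=
  pullback.lift (pullback.fst _ _ ≫ VanCyc.jA R f E) (pullback.snd _ _)
    (by
      rw [Category.assoc, pullback.condition, ← Category.assoc, pullback.condition, Category.assoc,
        VanCyc.toS_comp R E Ω])

theorem al_fst : al E Ω f ≫ pullback.fst _ _ ≫ VanCyc.jA R f E = VanCyc.jA R f Ω := by
  rw [al, pullback.lift_fst_assoc, pullback.lift_fst]

theorem al_snd : al E Ω f ≫ pullback.snd _ _ = VanCyc.fibStr R f Ω := pullback.lift_snd _ _ _

theorem be_fst : be E Ω f ≫ VanCyc.jA R f Ω = pullback.fst _ _ ≫ VanCyc.jA R f E :=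
  pullback.lift_fst _ _ _

theorem be_snd : be E Ω f ≫ VanCyc.fibStr R f Ω = pullback.snd _ _ := pullback.lift_snd _ _ _

theorem al_be : al E Ω f ≫ be E Ω f = 𝟙 _ := by
  apply pullback.hom_ext
  · rw [Category.assoc, be_fst, al_fst, Category.id_comp]
  · rw [Category.assoc, be_snd, al_snd, Category.id_comp]

theorem be_al : be E Ω f ≫ al E Ω f = 𝟙 _ := by
  apply pullback.hom_ext
  · apply pullback.hom_ext
    · rw [Category.assoc, Category.assoc, al_fst, be_fst, Category.id_comp]
    · rw [Category.assoc, Category.assoc, pullback.condition, reassoc_of% (al_snd f),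
        ← Category.assoc, be_snd, Category.id_comp, pullback.condition]
  · rw [Category.assoc, al_snd, be_snd, Category.id_comp]

theorem isIso_al : IsIso (al E Ω f) := ⟨be E Ω f, al_be f, be_al f⟩

/-- Compatibility with the Galois action. -/
theorem gal_al (σ : Ω ≃ₐ[E] Ω) : VanCyc.galGeom f σ ≫ al E Ω f = al E Ω f ≫
    bm (VanCyc.fibStr R f E) (Spec.map (CommRingCat.ofHom (σ : Ω →+* Ω))) (spec_map_comp σ) := by
  have h1 : VanCyc.galGeom f σ ≫ VanCyc.fibStr R f Ω =
      VanCyc.fibStr R f Ω ≫ Spec.map (CommRingCat.ofHom (σ : Ω →+* Ω)) := by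
    simp only [VanCyc.galGeom, VanCyc.fibStr, pullback.map, pullback.lift_snd]
  apply pullback.hom_ext
  · apply pullback.hom_ext
    · rw [Category.assoc, Category.assoc, al_fst, VanCyc.galGeom_jA, Category.assoc, Category.assoc,
        ← Category.assoc (bm _ _ _), bm_fst, al_fst]
    · rw [Category.assoc, Category.assoc, pullback.condition, reassoc_of% (al_snd f),
        reassoc_of% h1, spec_map_comp, Category.assoc, Category.assoc, ← Category.assoc (bm _ _ _),
        bm_fst, pullback.condition, reassoc_of% (al_snd f)]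
  · rw [Category.assoc, al_snd, h1, Category.assoc, bm_snd, reassoc_of% (al_snd f)]

/-- Classes on `X_E ×_E Ω` and on `X_Ω`. -/
noncomputable def cc (q : ℕ) :
    HT (VanCyc.fibStr R f E) ((EtCoh.pull (VanCyc.jA R f E)).obj F)
      (Spec.map (CommRingCat.ofHom (algebraMap E Ω))) q →+ HQ F (VanCyc.jA R f Ω) q :=
  resCmp F (VanCyc.jA R f E) (pullback.fst _ _) rfl (al E Ω f) (al_fst f) q

theorem cc_bijective (q : ℕ) : Function.Bijective (cc (E := E) (Ω := Ω) f F q) := by
  have := isIso_al (E := E) (Ω := Ω) f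
  exact resCmp_bijective F (VanCyc.jA R f E) (pullback.fst _ _) rfl (al E Ω f) (al_fst f) q

theorem cc_rs (q : ℕ) (σ : Ω ≃ₐ[E] Ω)
    (x : HT (VanCyc.fibStr R f E) ((EtCoh.pull (VanCyc.jA R f E)).obj F)
      (Spec.map (CommRingCat.ofHom (algebraMap E Ω))) q) :
    cc f F q (rs (VanCyc.fibStr R f E) ((EtCoh.pull (VanCyc.jA R f E)).obj F)
      (Spec.map (CommRingCat.ofHom (σ : Ω →+* Ω))) (spec_map_comp σ) q x) =
    VanCyc.galH f σ F q (cc f F q x) := by
  have h1 := res_resCmp F (VanCyc.jA R f E) (pullback.fst (VanCyc.fibStr R f E)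
    (Spec.map (CommRingCat.ofHom (algebraMap E Ω)))) rfl (al E Ω f) (al_fst f)
    (pullback.fst (VanCyc.fibStr R f E) (Spec.map (CommRingCat.ofHom (algebraMap E Ω)))) rfl
    (al E Ω f) (al_fst f)
    (bm (VanCyc.fibStr R f E) (Spec.map (CommRingCat.ofHom (σ : Ω →+* Ω))) (spec_map_comp σ))
    (bm_fst _ _ _) (VanCyc.galGeom f σ) (VanCyc.galGeom_jA f σ) (gal_al f σ) q x
  rw [res_eq_hpVia] at h1
  exact h1.symm

/-- If the Galois group acts trivially on `H^q(X_Ω, F)` it acts trivially on the cohomology of the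
geometric fibre of `X_E`. -/
theorem rs_eq (q : ℕ) (h : ∀ σ : Ω ≃ₐ[E] Ω, VanCyc.galH f σ F q = AddMonoidHom.id _)
    (σ : Ω ≃ₐ[E] Ω) (x : HT (VanCyc.fibStr R f E) ((EtCoh.pull (VanCyc.jA R f E)).obj F)
      (Spec.map (CommRingCat.ofHom (algebraMap E Ω))) q) :
    rs (VanCyc.fibStr R f E) ((EtCoh.pull (VanCyc.jA R f E)).obj F)
      (Spec.map (CommRingCat.ofHom (σ : Ω →+* Ω))) (spec_map_comp σ) q x = x := by
  apply (cc_bijective f F q).1
  rw [cc_rs, h σ, AddMonoidHom.id_apply]

end Groth.Agent.Lefpen.H776.GalFix
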