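import Groth.Agent.Lefpen.H776.GalConst
import Groth.Agent.Lefpen.H20.B1
import Groth.Agent.S0185
import Groth.Agent.S0127
import Mathlib.RingTheory.DiscreteValuationRing.Basic

/-!
# Constancy of `R^q f_* ℤ/N` over a finite extension on which the Galois action is trivial
-/

set_option autoImplicit false
universe u
open CategoryTheory CategoryTheory.Limits AlgebraicGeometry Opposite

namespace Groth.Agent.Lefpen.H776.T

open Groth.Agent.Lefpen.H776.GalConst Groth.Agent.Lefpen.H776.GalFix

/-- The algebra tower of an intermediate field. -/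
theorem isScalarTower_intermediate (R K Ω : Type u) [CommRing R] [Field K] [Algebra R K] [Field Ω]
    [Algebra K Ω] [Algebra R Ω] [IsScalarTower R K Ω] (K1 : IntermediateField K Ω) :
    IsScalarTower R K1 Ω :=
  IsScalarTower.of_algebraMap_eq fun _ => rfl

theorem isSepClosure_intermediate (K Ω : Type u) [Field K] [Field Ω] [Algebra K Ω]
    [IsSepClosure K Ω] (K1 : IntermediateField K Ω) : IsSepClosure K1 Ω :=
  ⟨IsSepClosure.sep_closed K,
    have : Algebra.IsSeparable K Ω := IsSepClosure.separable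
    Algebra.isSeparable_tower_top_of_isSeparable K K1 Ω⟩

/-- **(T)** for torsion sheaves with finite cohomology, over any field `E`. -/
theorem exists_const_field {R : Type u} [CommRing R] (E : Type u) [Field E] [Algebra R E]
    (Ω : Type u) [Field Ω] [Algebra E Ω] [Algebra R Ω] [IsScalarTower R E Ω] [IsSepClosure E Ω]
    {X : Scheme.{u}} (f : X ⟶ Spec (CommRingCat.of R)) [IsProper f] (F : EtCoh.Ab X)
    (hF : EtCoh.IsTorsion F) (q : ℕ)
    (hfin : Finite (EtCoh.H (VanCyc.fib R f Ω) ((EtCoh.pull (VanCyc.jA R f Ω)).obj F) q))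
    (h : ∀ (σ : Ω ≃ₐ[E] Ω) [PreservesFiniteLimits (EtCoh.pull (VanCyc.galGeom f σ))],
      VanCyc.galH f σ F q = AddMonoidHom.id _) :
    ∃ (M : Type) (_ : AddCommGroup M),
      Nonempty ((EtCoh.pull (VanCyc.toS R E)).obj ((EtCoh.Rpush f q).obj F) ≅
        EtCoh.const (Spec (CommRingCat.of E)) M) := by
  have hs : IsSepClosed Ω := IsSepClosure.sep_closed E
  have hp : IsProper (VanCyc.fibStr R f E) :=
    MorphismProperty.pullback_snd (P := @IsProper) _ _ inferInstance
  exact exists_const E Ω f F hF q (Groth.Agent.Lefpen.H20.B1.b1 (VanCyc.fibStr R f E)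
    ((EtCoh.pull (VanCyc.jA R f E)).obj F) q) hfin fun σ =>
      @h σ (Groth.Agent.Etcore.HQ.pfl _)

/-- **(T)** for an intermediate field. -/
theorem exists_const_intermediate (R K Ω : Type u) [CommRing R] [Field K] [Algebra R K] [Field Ω]
    [Algebra K Ω] [IsSepClosure K Ω] [Algebra R Ω] [IsScalarTower R K Ω]
    {X : Scheme.{u}} (f : X ⟶ Spec (CommRingCat.of R)) [IsProper f] (F : EtCoh.Ab X)
    (hF : EtCoh.IsTorsion F) (q : ℕ)
    (hfin : Finite (EtCoh.H (VanCyc.fib R f Ω) ((EtCoh.pull (VanCyc.jA R f Ω)).obj F) q))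
    (K1 : IntermediateField K Ω)
    (h : ∀ (σ : Ω ≃ₐ[K] Ω) [PreservesFiniteLimits (EtCoh.pull (VanCyc.galGeom f σ))],
      (∀ x ∈ K1, σ x = x) → VanCyc.galH f σ F q = AddMonoidHom.id _) :
    ∃ (M : Type) (_ : AddCommGroup M),
      Nonempty ((EtCoh.pull (VanCyc.toS R K1)).obj ((EtCoh.Rpush f q).obj F) ≅
        EtCoh.const (Spec (CommRingCat.of K1)) M) := by
  have h1 := isScalarTower_intermediate R K Ω K1
  have h2 := isSepClosure_intermediate K Ω K1
  refine exists_const_field K1 Ω f F hF q hfin fun σ hσ => ?_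
  have hσ' : PreservesFiniteLimits (EtCoh.pull (VanCyc.galGeom f (σ.restrictScalars K))) := hσ
  exact h (σ.restrictScalars K) fun x hx => σ.commutes ⟨x, hx⟩

/-- Finiteness of the cohomology of the geometric generic fibre with constant coefficients. -/
theorem finite_H {R : Type u} [CommRing R] {X : Scheme.{u}} (f : X ⟶ Spec (CommRingCat.of R))
    [IsProper f] (Ω : Type u) [Field Ω] [IsSepClosed Ω] [Algebra R Ω] (N : ℕ) (hN : 0 < N) (q : ℕ) :
    Finite (EtCoh.H (VanCyc.fib R f Ω)
      ((EtCoh.pull (VanCyc.jA R f Ω)).obj (EtCoh.const X (ZMod N))) q) := by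
  have : NeZero N := ⟨hN.ne'⟩
  have hp : IsProper (VanCyc.fibStr R f Ω) :=
    MorphismProperty.pullback_snd (P := @IsProper) _ _ inferInstance
  exact Groth.Agent.S0185.result _ (VanCyc.fibStr R f Ω) N hN _
    (Groth.Agent.S0127.result _ _ (Groth.Agent.Etrest.ConstBasic.isConstructible_const X (ZMod N)))
    (Groth.Agent.Etcore.Torsion.killedBy_pull N _ _
      (Groth.Agent.Etrest.ConstBasic.killedBy_const X (ZMod N) N fun m => by
        rw [nsmul_eq_mul, ZMod.natCast_self, zero_mul])) q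

/-- **(T)**: the form used for Lefschetz pencils. -/
theorem main (R K Ω : Type u) [CommRing R] [IsDomain R] [IsDiscreteValuationRing R]
    (_ : EtCoh.IsStrictlyHenselianLocalRing R) [Field K] [Algebra R K] [IsFractionRing R K]
    [Field Ω] [Algebra K Ω] [IsSepClosure K Ω] [Algebra R Ω] [IsScalarTower R K Ω]
    {X : Scheme.{u}} (f : X ⟶ Spec (CommRingCat.of R)) [IsProper f] (N : ℕ) (hN : 0 < N) (q : ℕ)
    (K₁ : IntermediateField K Ω) [FiniteDimensional K K₁]
    (h : ∀ (σ : Ω ≃ₐ[K] Ω) [PreservesFiniteLimits (EtCoh.pull (VanCyc.galGeom f σ))],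
      (∀ x ∈ K₁, σ x = x) → VanCyc.galH f σ (EtCoh.const X (ZMod N)) q = AddMonoidHom.id _) :
    ∃ (M : Type) (_ : AddCommGroup M), Nonempty ((EtCoh.pull (VanCyc.toS R K₁)).obj
      ((EtCoh.Rpush f q).obj (EtCoh.const X (ZMod N))) ≅
        EtCoh.const (Spec (CommRingCat.of K₁)) M) := by
  have hs : IsSepClosed Ω := IsSepClosure.sep_closed K
  exact exists_const_intermediate R K Ω f (EtCoh.const X (ZMod N))
    (Groth.Agent.Etrest.ConstBasic.isTorsion_of_killedBy hN
      (Groth.Agent.Etrest.ConstBasic.killedBy_const X (ZMod N) N fun m => by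
        rw [nsmul_eq_mul, ZMod.natCast_self, zero_mul])) q (finite_H f Ω N hN q) K₁ h

end Groth.Agent.Lefpen.H776.T
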